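import Groth.Agent.BoxSurj.Main
import Groth.Agent.HomShX.Prec
import Groth.Agent.QCoh.Qcqs
import Groth.Agent.RefX.QCoh

/-!
# Extending sections from the non-vanishing locus of a section of a dual bundle

For `π : E ⟶ O` with `E` finite locally free and `U` the locus where `π` is surjective, every section of a
quasi-coherent module on `U` is hit by a morphism out of a finite locally free module.
-/

set_option autoImplicit false
set_option linter.style.haveILetI false
set_option backward.isDefEq.respectTransparency false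
set_option backward.isDefEq.respectTransparency.types false
set_option maxHeartbeats 1000000

universe u

open CategoryTheory CategoryTheory.Limits AlgebraicGeometry TopologicalSpace Opposite

noncomputable section

namespace Groth.Agent.ExtendDual7

open RefHull (stalkMapₗ stalkMapₗ_germ homSh)

variable {X : Scheme.{u}} {E : X.Modules} (π : E ⟶ Coh.structureModule X)

/-- The scalar attached to a section of `E`. -/
def sc {V : X.Opens} (p : Γ(E, V)) : Γ(X, V) := π.app V p

theorem sc_smul {V : X.Opens} (r : Γ(X, V)) (p : Γ(E, V)) : sc π (r • p) = r * sc π p :=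
  Scheme.Modules.Hom.app_smul π r p

theorem sc_add {V : X.Opens} (p q : Γ(E, V)) : sc π (p + q) = sc π p + sc π q := map_add (π.app V).hom p q

/-- `sc` as a linear map. -/
def scLin (V : X.Opens) : Γ(E, V) →ₗ[Γ(X, V)] Γ(X, V) where
  toFun := sc π
  map_add' := sc_add π
  map_smul' := sc_smul π

/-- The ideal of values. -/
def Jd (V : X.Opens) : Ideal Γ(X, V) := LinearMap.range (scLin π V)

/-- The value map on a stalk. -/
def piVal (y : X) : E.presheaf.stalk y →ₗ[X.presheaf.stalk y] X.presheaf.stalk y :=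
  (RefX.unitStalk y).symm.toLinearMap.comp (stalkMapₗ π y)

theorem piVal_germ {V : X.Opens} {y : X} (hy : y ∈ V) (p : Γ(E, V)) :
    piVal π y (E.presheaf.germ V y hy p) = X.presheaf.germ V y hy (sc π p) := by
  refine (RefX.unitStalk y).injective ?_
  show RefX.unitStalk y ((RefX.unitStalk y).symm (stalkMapₗ π y (E.presheaf.germ V y hy p))) = _
  rw [LinearEquiv.apply_symm_apply, stalkMapₗ_germ]
  exact (HomShX.unitStalk_germ hy (π.app V p)).symm

variable {G : X.Modules}

/-- Multiplication by `π`. -/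
def mulDual (G : X.Modules) : G ⟶ homSh E G :=
  ⟨PresheafOfModules.homMk
    { app := fun U => AddCommGrpCat.ofHom (AddMonoidHom.mk'
        (fun m => HomShX.rankOne (RefHull.ofHom π U.unop) m)
        (fun a b => RefX.sect_ext fun y => LinearMap.ext fun v => by
          show piVal π y.1 v • G.presheaf.germ U.unop y.1 y.2 (a + b) =
            piVal π y.1 v • G.presheaf.germ U.unop y.1 y.2 a + piVal π y.1 v • G.presheaf.germ U.unop y.1 y.2 b
          rw [map_add, smul_add]))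
      naturality := fun {U V} i => by
        ext s
        refine RefX.sect_ext fun y => LinearMap.ext fun v => ?_
        exact congrArg (piVal π y.1 v • ·) (TopCat.Presheaf.germ_res_apply' G.presheaf i y.1 y.2 s) }
    (fun U r s => RefX.sect_ext fun y => LinearMap.ext fun v =>
      (congrArg (piVal π y.1 v • ·) (Mero.germ_smul G U.unop y.1 y.2 r s)).trans (smul_comm _ _ _))⟩

theorem mulDual_val {V : X.Opens} (m : Γ(G, V)) (y : V) (v : E.presheaf.stalk y.1) :
    ((mulDual π G).app V m).1 y v = piVal π y.1 v • G.presheaf.germ V y.1 y.2 m := rfl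

theorem app_mulDual {V : X.Opens} (m : Γ(G, V)) (p : Γ(E, V)) :
    RefX.app le_rfl ((mulDual π G).app V m) p = sc π p • m :=
  ZClosLib.section_ext G _ _ fun y hy => by
    rw [RefX.germ_app, mulDual_val, piVal_germ, QCoh.germ_smul']

theorem app_smul_left {V : X.Opens} (a : Γ(X, V)) (g : Γ(homSh E G, V)) (p : Γ(E, V)) :
    RefX.app le_rfl (a • g) p = a • RefX.app le_rfl g p :=
  ZClosLib.section_ext G _ _ fun y hy => by
    rw [RefX.germ_app, RefX.smul_val, LinearMap.smul_apply, QCoh.germ_smul', RefX.germ_app]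

variable (E) in
/-- Iterated sheaves of homomorphisms out of `E`. -/
def H : ℕ → X.Modules → X.Modules
  | 0, G => G
  | n + 1, G => H n (homSh E G)

/-- Multiplication by powers of `π`. -/
def pw : (n : ℕ) → (G : X.Modules) → (G ⟶ H E n G)
  | 0, G => 𝟙 G
  | n + 1, G => mulDual π G ≫ pw n (homSh E G)

theorem isQCoh_H (hE : CohB1.IsFP E) : ∀ (n : ℕ) (G : X.Modules), Coh.IsQCoh G → Coh.IsQCoh (H E n G)
  | 0, _, hG => hG
  | n + 1, _, hG => isQCoh_H hE n _ (RefX.isQCoh_homSh hE hG)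

section Affine

variable (hE : Coh.IsQCoh E) {V : X.Opens} (hV : IsAffineOpen V)
include hE hV

/-- Sections killed by a power of the values die. -/
theorem pw_app_eq_zero : ∀ (n : ℕ) (G : X.Modules) (t : Γ(G, V)),
    (∀ a ∈ Jd π V ^ n, a • t = 0) → (pw π n G).app V t = 0
  | 0, G, t, h => by
    have h1 := h 1 (by rw [pow_zero, Ideal.one_eq_top]; trivial)
    rw [one_smul] at h1
    exact h1
  | n + 1, G, t, h => by
    show (pw π n (homSh E G)).app V ((mulDual π G).app V t) = 0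
    refine pw_app_eq_zero n _ _ fun a ha => RefX.toLin_injective hE hV _ _ fun p => ?_
    rw [app_smul_left, app_mulDual, ← mul_smul, h _ (by rw [pow_succ]; exact Ideal.mul_mem_mul ha ⟨p, rfl⟩)]
    refine (ZClosLib.section_ext G _ _ fun y hy => ?_).symm
    rw [RefX.germ_app, map_zero]
    rfl

/-- Sections whose multiples extend, extend after multiplication by a power of `π`. -/
theorem exists_extend_pw [Module.Projective Γ(X, V) Γ(E, V)] {W : X.Opens} (hW : W ≤ V) :
    ∀ (n : ℕ) (G : X.Modules) (s : Γ(G, W)),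
      (∀ a ∈ Jd π V ^ n, ∃ T : Γ(G, V), AModX.res G hW T = AModX.resR hW a • s) →
      ∃ t : Γ(H E n G, V), AModX.res (H E n G) hW t = (pw π n G).app W s
  | 0, G, s, h => by
    obtain ⟨T, hT⟩ := h 1 (by rw [pow_zero, Ideal.one_eq_top]; trivial)
    refine ⟨T, hT.trans ?_⟩
    rw [map_one, one_smul]
    rfl
  | n + 1, G, s, h => by
    refine exists_extend_pw hW n (homSh E G) ((mulDual π G).app W s) fun a ha => ?_
    letI := RefX.resModule G hW
    let ρ : Γ(G, V) →ₗ[Γ(X, V)] Γ(G, W) :=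
      { toFun := AModX.res G hW, map_add' := map_add _, map_smul' := fun r x => AModX.res_smul hW r x }
    let φ : Γ(E, V) →ₗ[Γ(X, V)] Γ(G, W) :=
      { toFun := fun p => AModX.resR hW (sc π p * a) • s
        map_add' := fun p q => by rw [sc_add, add_mul, map_add, add_smul]
        map_smul' := fun r p => by
          show _ = AModX.resR hW r • AModX.resR hW (sc π p * a) • s
          rw [← mul_smul, ← map_mul, sc_smul, mul_assoc] }
    have hr : LinearMap.range φ ≤ LinearMap.range ρ := by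
      rintro _ ⟨p, rfl⟩
      exact h _ (by rw [pow_succ']; exact Ideal.mul_mem_mul ⟨p, rfl⟩ ha)
    obtain ⟨θ₀, hθ₀⟩ := Module.projective_lifting_property ρ.rangeRestrict
      (φ.codRestrict (LinearMap.range ρ) fun p => hr ⟨p, rfl⟩) ρ.surjective_rangeRestrict
    have hsm : ∀ (r : Γ(X, V)) (m : Γ(E, V)), θ₀ (r • m) = AModX.resR (le_refl V) r • θ₀ m :=
      fun r m => by rw [AModX.resR_self]; exact map_smul θ₀ r m
    let θ : letI := RefX.resModule G (le_refl V); Γ(E, V) →ₗ[Γ(X, V)] Γ(G, V) :=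
      letI := RefX.resModule G (le_refl V)
      { toFun := θ₀, map_add' := map_add θ₀, map_smul' := hsm }
    refine ⟨RefX.ofLin hE hV le_rfl θ, RefX.sect_ext_affine hE hV hW fun y p => ?_⟩
    have hρ : AModX.res G hW (θ₀ p) = AModX.resR hW (sc π p * a) • s :=
      congrArg Subtype.val (LinearMap.congr_fun hθ₀ p)
    rw [RefX.res_val, RefX.smul_val, LinearMap.smul_apply, mulDual_val, piVal_germ, RefX.ofLin_germ]
    show G.presheaf.germ V y.1 _ (θ₀ p) = _
    rw [← RefX.germ_res G hW y.2, hρ, QCoh.germ_smul', RefX.germ_resR, RefX.germ_resR, map_mul, mul_comm, mul_smul]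

end Affine

/-- A locus cut out by the values of `π`. -/
def IsLocus (U : X.Opens) : Prop :=
  ∀ V : X.Opens, IsAffineOpen V → ∀ y ∈ V, (y ∈ U ↔ ∃ p : Γ(E, V), y ∈ X.basicOpen (sc π p))

variable {U : X.Opens}

theorem basicOpen_le_locus (hU : IsLocus π U) {V : X.Opens} (hV : IsAffineOpen V) {a : Γ(X, V)}
    (ha : a ∈ Jd π V) : X.basicOpen a ≤ V ⊓ U := by
  obtain ⟨p, rfl⟩ := ha
  exact fun y hy => ⟨X.basicOpen_le _ hy, (hU V hV y (X.basicOpen_le _ hy)).2 ⟨p, hy⟩⟩

theorem exists_pow_le {R : Type u} [CommRing R] (J C : Ideal R) (hJ : J.FG) (h : ∀ a ∈ J, ∃ n : ℕ, a ^ n ∈ C) :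
    ∃ n₀ : ℕ, ∀ n ≥ n₀, J ^ n ≤ C := by
  obtain ⟨n₀, hn₀⟩ := Ideal.exists_pow_le_of_le_radical_of_fg (fun a ha => h a ha : J ≤ C.radical) hJ
  exact ⟨n₀, fun n hn => (Ideal.pow_le_pow_right hn).trans hn₀⟩

theorem fg_Jd (hE : Coh.IsQCoh E) (hEt : CohB1.IsFT E) {V : X.Opens} (hV : IsAffineOpen V) : (Jd π V).FG := by
  haveI := QCoh.finite_of_isFT hE hEt hV
  unfold Jd
  rw [LinearMap.range_eq_map]
  exact Submodule.FG.map _ Module.Finite.fg_top

theorem smul_mem_span_res {V W : X.Opens} (h : W ≤ V) (a : Γ(X, V)) (T : Γ(G, V)) :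
    AModX.res G h (a • T) = AModX.resR h a • AModX.res G h T := AModX.res_smul h a T

/-- Existence on an affine open. -/
theorem exists_local (hE : FlatMod.IsFinLocFree E) (hU : IsLocus π U) (hG : Coh.IsQCoh G) {V : X.Opens}
    (hV : IsAffineOpen V) (hc : IsCompact ((V ⊓ U : X.Opens) : Set X)) (s : Γ(G, V ⊓ U)) :
    ∃ n₀ : ℕ, ∀ n ≥ n₀, ∃ t : Γ(H E n G, V),
      AModX.res (H E n G) (inf_le_left : V ⊓ U ≤ V) t = (pw π n G).app (V ⊓ U) s := by
  have hfp := QCoh.isFP_of_isFinLocFree hE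
  have hEq := QCoh.isQCoh_of_isFP hfp
  haveI : Module.Flat Γ(X, V) Γ(E, V) := (QCoh.isFlat_iff hEq).1 (QCoh.isFlat_and_isFP_iff.2 hE).1 ⟨V, hV⟩
  haveI := QCoh.finitePresentation_of_isFP hfp hV
  haveI : Module.Projective Γ(X, V) Γ(E, V) := Module.Flat.projective_of_finitePresentation
  have hW : V ⊓ U ≤ V := inf_le_left
  let C : Ideal Γ(X, V) :=
    { carrier := {a | ∃ T : Γ(G, V), AModX.res G hW T = AModX.resR hW a • s}
      add_mem' := fun {a b} ⟨T, hT⟩ ⟨T', hT'⟩ => ⟨T + T', by rw [map_add, hT, hT', map_add, add_smul]⟩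
      zero_mem' := ⟨0, by rw [map_zero, map_zero, zero_smul]⟩
      smul_mem' := fun r a ⟨T, hT⟩ => ⟨r • T, by rw [AModX.res_smul, hT, ← mul_smul, ← map_mul]; rfl⟩ }
  obtain ⟨n₀, hn₀⟩ := exists_pow_le (Jd π V) C (fg_Jd π hEq (QCoh.isFT_of_isFP hfp) hV) fun a ha => by
    have hle := basicOpen_le_locus π hU hV ha
    obtain ⟨n, t, ht⟩ := QCoh.exists_pow_smul_eq_map hG hV a (AModX.res G hle s)
    change AModX.res G (X.basicOpen_le a) t = AModX.resR (X.basicOpen_le a) a ^ n • AModX.res G hle s at ht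
    let f := AModX.resR hW a
    have hb : X.basicOpen f ≤ X.basicOpen a :=
      (QCoh.basicOpen_res_inf (homOfLE hW) a).le.trans inf_le_right
    obtain ⟨m, hm⟩ := QCoh.exists_pow_smul_eq_zero_of_isCompact hG hc f (AModX.res G hW t - f ^ n • s) (by
      show AModX.res G (X.basicOpen_le f) _ = 0
      rw [map_sub, sub_eq_zero, AModX.res_res, AModX.res_smul, map_pow, AModX.resR_resR]
      have h1 := congrArg (AModX.res G hb) ht
      rw [AModX.res_smul, map_pow, AModX.res_res, AModX.res_res, AModX.resR_resR] at h1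
      exact h1)
    refine ⟨m + n, a ^ m • t, ?_⟩
    rw [smul_sub, sub_eq_zero] at hm
    rw [AModX.res_smul, map_pow, hm, map_pow, pow_add, mul_smul]
  exact ⟨n₀, fun n hn => exists_extend_pw π hEq hV hW n G s fun a ha => hn₀ n hn ha⟩

/-- Uniqueness on an affine open. -/
theorem exists_kill (hE : Coh.IsQCoh E) (hEt : CohB1.IsFT E) (hU : IsLocus π U) (hG : Coh.IsQCoh G) {V : X.Opens}
    (hV : IsAffineOpen V) (t : Γ(G, V)) (ht : AModX.res G (inf_le_left : V ⊓ U ≤ V) t = 0) :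
    ∃ n₀ : ℕ, ∀ n ≥ n₀, (pw π n G).app V t = 0 := by
  let C : Ideal Γ(X, V) := LinearMap.ker (LinearMap.toSpanSingleton Γ(X, V) Γ(G, V) t)
  obtain ⟨n₀, hn₀⟩ := exists_pow_le (Jd π V) C (fg_Jd π hE hEt hV) fun a ha => by
    obtain ⟨n, hn⟩ := QCoh.exists_pow_smul_eq_zero hG hV a t (by
      show AModX.res G (X.basicOpen_le a) t = 0
      rw [← AModX.res_res (inf_le_left : V ⊓ U ≤ V) (basicOpen_le_locus π hU hV ha), ht, map_zero])
    exact ⟨n, hn⟩
  exact ⟨n₀, fun n hn => pw_app_eq_zero π hE hV n G t fun a ha => hn₀ n hn ha⟩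

/-- Uniqueness on a quasi-compact open. -/
theorem exists_kill_compact (hE : Coh.IsQCoh E) (hEt : CohB1.IsFT E) (hU : IsLocus π U) (hG : Coh.IsQCoh G)
    {W : X.Opens} (hW : IsCompact (W : Set X)) (t : Γ(G, W))
    (ht : AModX.res G (inf_le_left : W ⊓ U ≤ W) t = 0) :
    ∃ n₀ : ℕ, ∀ n ≥ n₀, (pw π n G).app W t = 0 := by
  obtain ⟨S, hS, hW'⟩ := isCompact_iff_finite_and_eq_biUnion_affineOpens.mp hW
  haveI := hS.to_subtype
  haveI := Fintype.ofFinite S
  have hle : ∀ V : S, (V.1.1 : X.Opens) ≤ W := fun V => by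
    rw [hW']; exact le_iSup₂ (f := fun (i : X.affineOpens) (_ : i ∈ S) => (i : X.Opens)) V.1 V.2
  choose N hN using fun V : S => exists_kill π hE hEt hU hG V.1.2 (AModX.res G (hle V) t) (by
    rw [AModX.res_res, ← AModX.res_res (inf_le_left : W ⊓ U ≤ W) (inf_le_inf_right U (hle V)), ht, map_zero])
  refine ⟨∑ V, N V, fun n hn => AModX.eq_of_locally _ _ fun p hp => ?_⟩
  rw [hW'] at hp
  obtain ⟨V, hp⟩ := Opens.mem_iSup.1 hp
  obtain ⟨hVS, hp⟩ := Opens.mem_iSup.1 hp
  refine ⟨V.1, hle ⟨V, hVS⟩, hp, ?_⟩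
  rw [map_zero, ← AModX.app_res, hN ⟨V, hVS⟩ n
    ((Finset.single_le_sum (f := N) (fun _ _ => Nat.zero_le _) (Finset.mem_univ ⟨V, hVS⟩)).trans hn)]

/-- A map out of a bundle hitting a section on the locus. -/
def Hit (U : X.Opens) (G : X.Modules) (s : Γ(G, U)) : Prop :=
  ∃ (P : X.Modules) (φ : P ⟶ G), FlatMod.IsFinLocFree P ∧
    ∀ y : U, G.presheaf.germ U y.1 y.2 s ∈ LinearMap.range (stalkMapₗ φ y.1)

theorem exists_unit_piVal (hU : IsLocus π U) (y : U) : ∃ v : E.presheaf.stalk y.1, IsUnit (piVal π y.1 v) := by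
  obtain ⟨V, hV, hyV⟩ := QCoh.exists_affine_mem y.1
  obtain ⟨p, hp⟩ := (hU V hV y.1 hyV).1 y.2
  refine ⟨E.presheaf.germ V y.1 hyV p, ?_⟩
  rw [piVal_germ]
  exact (X.mem_basicOpen _ y.1 hyV).1 hp

theorem hit_of_mulDual (hE : FlatMod.IsFinLocFree E) (hU : IsLocus π U) (s : Γ(G, U))
    (h : Hit U (homSh E G) ((mulDual π G).app U s)) : Hit U G s := by
  obtain ⟨P, φ, hP, hφ⟩ := h
  refine ⟨CohB1.tensorMod E P, H23.TensorDesc.desc (BoxSurj.pairing φ), KFlatLib.isFinLocFree_tensor hE hP, fun y => ?_⟩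
  obtain ⟨v, hv⟩ := exists_unit_piVal π hU y
  obtain ⟨w, hw⟩ := hφ y
  obtain ⟨O, hyO, e, rfl⟩ := E.presheaf.exists_germ_eq v
  obtain ⟨O', hyO', c, rfl⟩ := P.presheaf.exists_germ_eq w
  let W := O ⊓ O' ⊓ U
  have hyW : y.1 ∈ W := ⟨⟨hyO, hyO'⟩, y.2⟩
  let e' := AModX.res E (inf_le_left.trans inf_le_left : W ≤ O) e
  let c' := AModX.res P (inf_le_left.trans inf_le_right : W ≤ O') c
  have hval : (φ.app W c').1 ⟨y.1, hyW⟩ = ((mulDual π G).app U s).1 y := by
    have h1 := congrArg (RefHull.evalStalk E G y.1) hw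
    rw [stalkMapₗ_germ, RefHull.evalStalk_germ, RefHull.evalStalk_germ] at h1
    rw [show φ.app W c' = AModX.res (homSh E G) (inf_le_left.trans inf_le_right : W ≤ O') (φ.app O' c) from
      AModX.app_res φ _ c, RefX.res_val]
    exact h1
  rw [← Submodule.smul_mem_iff_of_isUnit _ hv]
  refine ⟨(CohB1.tensorMod E P).presheaf.germ W y.1 hyW (SecTwist.tmul E P W e' c'), ?_⟩
  rw [stalkMapₗ_germ]
  erw [H23.TensorDesc.desc_tmul]
  show G.presheaf.germ W y.1 _ (RefX.app (le_refl W) (φ.app W c') e') = _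
  rw [RefX.germ_app, hval, mulDual_val, RefX.germ_res]

theorem hit_of_pw (hE : FlatMod.IsFinLocFree E) (hU : IsLocus π U) :
    ∀ (n : ℕ) (G : X.Modules) (s : Γ(G, U)), Hit U (H E n G) ((pw π n G).app U s) → Hit U G s
  | 0, _, _, h => h
  | n + 1, G, s, h => hit_of_mulDual π hE hU s (hit_of_pw hE hU n (homSh E G) _ h)

theorem hit_of_global (hE : FlatMod.IsFinLocFree E) (hU : IsLocus π U) :
    ∀ (n : ℕ) (G : X.Modules) (s : Γ(G, U)) (t : Γ(H E (n + 1) G, ⊤)),
      AModX.res (H E (n + 1) G) (le_top : U ≤ ⊤) t = (pw π (n + 1) G).app U s → Hit U G s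
  | 0, G, s, t, h => by
    refine ⟨E, HomShX.toHom t, hE, fun y => ?_⟩
    obtain ⟨v, hv⟩ := exists_unit_piVal π hU y
    rw [← Submodule.smul_mem_iff_of_isUnit _ hv]
    refine ⟨v, ?_⟩
    rw [HomShX.stalkMapₗ_toHom]
    exact LinearMap.congr_fun (congrArg (fun g : Γ(homSh E G, U) => g.1 y) h) v
  | n + 1, G, s, t, h => hit_of_mulDual π hE hU s (hit_of_global hE hU n (homSh E G) _ t h)

/-- Every section on the locus is hit by a map out of a bundle. -/
theorem exists_hit [CompactSpace X] [QuasiSeparatedSpace X] (hE : FlatMod.IsFinLocFree E) (hU : IsLocus π U)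
    (hUc : IsCompact (U : Set X)) (hG : Coh.IsQCoh G) (s : Γ(G, U)) : Hit U G s := by
  classical
  have hfp := QCoh.isFP_of_isFinLocFree hE
  have hEq := QCoh.isQCoh_of_isFP hfp
  have hEt : CohB1.IsFT E := QCoh.isFT_of_isFP hfp
  obtain ⟨F, hF⟩ := isCompact_univ.elim_finite_subcover (fun V : X.affineOpens => (V.1 : Set X))
    (fun V => V.1.2) fun y _ => by
      obtain ⟨V, hV, hyV⟩ := QCoh.exists_affine_mem y
      exact Set.mem_iUnion.2 ⟨⟨V, hV⟩, hyV⟩
  choose n₀ hn₀ using fun a : F => exists_local π hE hU hG a.1.2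
    (a.1.2.isCompact.inter_of_isOpen hUc a.1.1.2 U.2) (AModX.res G (inf_le_right : a.1.1 ⊓ U ≤ U) s)
  let N := (∑ a, n₀ a)
  choose t ht using fun a : F => hn₀ a N (Finset.single_le_sum (f := n₀) (fun _ _ => Nat.zero_le _) (Finset.mem_univ a))
  have hq := isQCoh_H hfp N G hG
  choose m₀ hm₀ using fun ab : F × F => exists_kill_compact π hEq hEt hU hq
    (ab.1.1.2.isCompact.inter_of_isOpen ab.2.1.2.isCompact ab.1.1.1.2 ab.2.1.1.2)
    (AModX.res _ inf_le_left (t ab.1) - AModX.res _ inf_le_right (t ab.2)) (by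
      rw [map_sub, sub_eq_zero, AModX.res_res, AModX.res_res,
        ← AModX.res_res (inf_le_left : ab.1.1.1 ⊓ U ≤ _) (inf_le_inf_right U inf_le_left), ht,
        ← AModX.res_res (inf_le_left : ab.2.1.1 ⊓ U ≤ _) (inf_le_inf_right U inf_le_right), ht,
        ← AModX.app_res, ← AModX.app_res, AModX.res_res, AModX.res_res])
  let M := (∑ ab, m₀ ab) + 1
  let T : ∀ a : F, Γ(H E M (H E N G), a.1.1) := fun a => (pw π M (H E N G)).app _ (t a)
  obtain ⟨τ, hτ, -⟩ := AModX.existsUnique_glue (M := H E M (H E N G)) (V := (⊤ : X.Opens))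
    (fun a : F => a.1.1) (fun _ => le_top) (fun p _ => by
      obtain ⟨V, hV, hpV⟩ := Set.mem_iUnion₂.1 (hF (Set.mem_univ p))
      exact ⟨⟨V, hV⟩, hpV⟩) T fun a b => by
    have h1 := hm₀ (a, b) M ((Finset.single_le_sum (f := m₀) (fun _ _ => Nat.zero_le _)
      (Finset.mem_univ (a, b))).trans (Nat.le_succ _))
    rw [map_sub, sub_eq_zero, AModX.app_res, AModX.app_res] at h1
    exact h1
  refine hit_of_pw π hE hU N G s (hit_of_global π hE hU (∑ ab, m₀ ab) _ _ τ ?_)
  refine AModX.eq_of_locally _ _ fun p hp => ?_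
  obtain ⟨V, hV, hpV⟩ := Set.mem_iUnion₂.1 (hF (Set.mem_univ p))
  refine ⟨V.1 ⊓ U, inf_le_right, ⟨hpV, hp⟩, ?_⟩
  rw [AModX.res_res, ← AModX.res_res (le_top : V.1 ≤ ⊤) (inf_le_left : V.1 ⊓ U ≤ V.1), hτ ⟨V, hV⟩,
    ← AModX.app_res, ht ⟨V, hV⟩, ← AModX.app_res, ← AModX.app_res]

end Groth.Agent.ExtendDual7

end
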